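import Groth.Agent.AgfChar.Semi
import Mathlib.LinearAlgebra.Matrix.Block

/-! The character condition gives equivariant embeddings of subgroup modules into functions on the group. -/

set_option autoImplicit false
universe u

open CategoryTheory MonoidalCategory CartesianMonoidalCategory MonObj GrpObj AlgebraicGeometry
open scoped TensorProduct
open Groth.Agf

noncomputable section

namespace Groth.AgfChar

variable {k : Type u} [Field k] [IsAlgClosed k] {G H : Over (Spec (CommRingCat.of k))} [GrpObj G] [GrpObj H]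
  [IsAffine G.left] [Smooth G.hom]

section Bordered

variable {J : Type u} [Fintype J] [DecidableEq J] (e : J → Fn G) (ψ : J ⊕ PUnit.{u+1} → Fn G →ₗ[k] k)

theorem minor_col (w : Fn G) :
    minor ψ (Sum.elim e fun _ => w) =
      ((Matrix.of fun a b => coef (ψ a) (Sum.elim e (fun _ => 0) b)).updateCol (Sum.inr PUnit.unit)
        (fun a => coef (ψ a) w)).det := by
  unfold minor
  congr 1
  ext a b
  rcases b with b | b
  · simp
  · simp

/-- The bordered minor, linear in the border. -/
def bordered : Fn G →ₗ[k] Fn G where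
  toFun w := minor ψ (Sum.elim e fun _ => w)
  map_add' w w' := by
    rw [minor_col, minor_col, minor_col]
    rw [← Matrix.det_updateCol_add]
    congr
    funext a
    simp
  map_smul' c w := by
    rw [minor_col, minor_col]
    simp only [RingHom.id_apply]
    conv_rhs => rw [Algebra.smul_def, ← Matrix.det_updateCol_smul]
    congr
    funext a
    rw [map_smul, Pi.smul_apply, smul_eq_mul, Algebra.smul_def]

theorem bordered_self (b : J) : bordered e ψ (e b) = 0 :=
  Matrix.det_zero_of_column_eq (i := Sum.inl b) (j := Sum.inr PUnit.unit) (by simp) (fun _ => by simp)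

theorem bordered_of_mem {M : Submodule k (Fn G)} (bM : Module.Basis J k M) (he : ∀ b, e b = bM b)
    {m : Fn G} (hm : m ∈ M) : bordered e ψ m = 0 := by
  have h := congrArg (fun z : M => bordered e ψ (z : Fn G)) (bM.sum_repr ⟨m, hm⟩)
  simp only [Submodule.coe_sum, Submodule.coe_smul, map_sum, map_smul] at h
  rw [← h]
  exact Finset.sum_eq_zero fun b _ => by rw [← he, bordered_self, smul_zero]

end Bordered

variable [IsAffine H.left] [Smooth H.hom] (i : H ⟶ G) [IsMonHom i] [IsClosedImmersion i.left]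

/-- A finite dimensional stable space of functions on the subgroup embeds equivariantly. -/
theorem exists_embed (hF : CharCond i) (U : Submodule k (Fn H)) [Module.Finite k U]
    (hU : ∀ (h : VecGrp.pt k k ⟶ H), ∀ f ∈ U, rT h f ∈ U) :
    ∃ (K : Type u) (_ : Fintype K) (Φ : U →ₗ[k] K → Fn G), Function.Injective Φ ∧
      ∀ (h : VecGrp.pt k k ⟶ H) (f : U) (l : K), Φ ⟨rT h f, hU h f f.2⟩ l = rT (h ≫ i) (Φ f l) := by
  classical
  let c := (Module.finBasis k U).reindex (Equiv.ulift.{u}).symm
  choose lift hlift using fun f => pull_surjective i (f : Fn H)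
  obtain ⟨W, hWfin, hsW, hW⟩ := exists_rT_stable (G := G) (Finset.univ.image fun l => lift (c l))
  let W' : Submodule k (Fn G) := W ⊓ U.comap (pull i).toLinearMap
  let M : Submodule k (Fn G) := W ⊓ LinearMap.ker (pull i).toLinearMap
  have hMfin : Module.Finite k M := Submodule.finiteDimensional_of_le (inf_le_left : M ≤ W)
  have hM : ∀ (h : VecGrp.pt k k ⟶ H), ∀ m ∈ M, rT (h ≫ i) m ∈ M := fun h m hm => ⟨hW _ m hm.1, by
    show pull i (rT (h ≫ i) m) = 0
    rw [pull_rT, show pull i m = 0 from hm.2, map_zero]⟩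
  -- projection and a linear section
  let π : W' →ₗ[k] U := ((pull i).toLinearMap ∘ₗ W'.subtype).codRestrict U fun w => w.2.2
  let σ : U →ₗ[k] W' := c.constr k fun l => ⟨lift (c l), hsW (by simp), by
    show pull i (lift (c l)) ∈ U
    rw [hlift]; exact (c l).2⟩
  have hσ : ∀ f : U, pull i (σ f : Fn G) = (f : Fn H) := by
    have : π ∘ₗ σ = LinearMap.id := c.ext fun l => Subtype.ext (by simp [π, σ, hlift])
    intro f
    exact congrArg Subtype.val (LinearMap.congr_fun this f)
  let bM := (Module.finBasis k M).reindex (Equiv.ulift.{u}).symm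
  let e := fun b => (bM b : Fn G)
  obtain ⟨ψ₀, hψ₀⟩ := exists_dual (e := e) (bM.linearIndependent.map' M.subtype M.ker_subtype)
  have hweight := evalPt_weight i hM bM ψ₀ hψ₀
  have h1 := evalPt_one_minor_dual bM ψ₀ hψ₀
  obtain ⟨b, hb1, hb⟩ := hF.exists_one_ne_zero (isMult_weight i hM bM ψ₀ hψ₀) (f := minor ψ₀ e)
    (fun h0 => by rw [h0, map_zero] at h1; exact zero_ne_one h1) (semi_minor i hM bM ψ₀ hψ₀ ψ₀)
  have hext : ∀ l, ∃ ξ : Fn G →ₗ[k] k, ξ ∘ₗ W'.subtype = c.coord l ∘ₗ π := fun l => LinearMap.exists_extend _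
  choose ξ hξ using hext
  let ψ := fun l => Sum.elim ψ₀ (fun _ : PUnit.{u+1} => ξ l)
  let Φ : U →ₗ[k] _ → Fn G :=
    LinearMap.pi fun l => LinearMap.mulLeft k b ∘ₗ bordered e (ψ l) ∘ₗ W'.subtype ∘ₗ σ
  have hinj : Function.Injective Φ := by
    rw [← LinearMap.ker_eq_bot, LinearMap.ker_eq_bot']
    intro f hf
    refine c.ext_elem fun l => ?_
    have h0 : evalPt (1 : VecGrp.pt k k ⟶ G) (Φ f l) = 0 := by rw [hf, Pi.zero_apply, map_zero]
    have hξw : ξ l (σ f : Fn G) = c.repr f l := by
      have h2 := LinearMap.congr_fun (hξ l) (σ f)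
      simp only [LinearMap.comp_apply, Submodule.subtype_apply, Module.Basis.coord_apply] at h2
      rw [h2, show π (σ f) = f from Subtype.ext (hσ f)]
    have hξe : ∀ a, ξ l (e a) = 0 := fun a => by
      have hmem : e a ∈ W' := ⟨(bM a).2.1, by
        show pull i (e a) ∈ U
        rw [show pull i (e a) = 0 from (bM a).2.2]; exact zero_mem _⟩
      have h2 := LinearMap.congr_fun (hξ l) ⟨e a, hmem⟩
      simp only [LinearMap.comp_apply, Submodule.subtype_apply, Module.Basis.coord_apply] at h2
      rw [h2, show π ⟨e a, hmem⟩ = 0 from Subtype.ext (bM a).2.2]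
      simp
    have hdet : (Matrix.of fun a b => ψ l a (Sum.elim e (fun _ => (σ f : Fn G)) b)) =
        Matrix.fromBlocks (1 : Matrix _ _ k) (Matrix.of fun a _ => ψ₀ a (σ f : Fn G)) 0
          (Matrix.diagonal fun _ : PUnit.{u+1} => c.repr f l) := by
      ext a b
      rcases a with a | a <;> rcases b with b | b <;> simp [ψ, e, hψ₀, Matrix.one_apply, hξw]
      exact hξe b
    simp only [Φ, LinearMap.pi_apply, LinearMap.comp_apply, LinearMap.mulLeft_apply, map_mul,
      Submodule.subtype_apply] at h0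
    have h3 := (mul_eq_zero.1 h0).resolve_left hb1
    change evalPt _ (minor (ψ l) (Sum.elim e fun _ => (σ f : Fn G))) = 0 at h3
    rw [evalPt_one_minor, hdet, Matrix.det_fromBlocks_zero₂₁, Matrix.det_one, Matrix.det_diagonal] at h3
    simpa using h3
  refine ⟨_, inferInstance, Φ, hinj, fun h f l => fn_ext_pts fun x => ?_⟩
  simp only [Φ, LinearMap.pi_apply, LinearMap.comp_apply, LinearMap.mulLeft_apply, Submodule.subtype_apply]
  set w : Fn G := (σ f : Fn G)
  set w' : Fn G := (σ ⟨rT h f, hU h f f.2⟩ : Fn G)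
  have hmem : w' - rT (h ≫ i) w ∈ M := ⟨sub_mem (σ _).2.1 (hW _ _ (σ f).2.1), by
    show pull i (w' - rT (h ≫ i) w) = 0
    rw [map_sub, pull_rT, hσ, hσ, sub_self]⟩
  have hsame : bordered e (ψ l) w' = bordered e (ψ l) (rT (h ≫ i) w) := by
    rw [← sub_eq_zero, ← map_sub]
    exact bordered_of_mem e (ψ l) bM (fun _ => rfl) hmem
  rw [hsame, map_mul, evalPt_rT, map_mul]
  show evalPt x b * evalPt x (minor _ _) = evalPt (x * (h ≫ i)) b * evalPt (x * (h ≫ i)) (minor _ _)
  rw [evalPt_mul_minor (ψ l) (Sum.elim e fun _ => w) (Sum.elim e fun _ => rT (h ≫ i) w)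
    (Matrix.fromBlocks (blockMat i hM bM h) 0 0 (1 : Matrix PUnit.{u+1} PUnit.{u+1} k)) (h ≫ i)
    (fun a => by rcases a with a | a <;> simp [rT_basis i hM bM h, Matrix.one_apply, e]) x,
    Matrix.det_fromBlocks_zero₂₁, Matrix.det_one, _root_.mul_one, ← hweight, ← hb x h]
  ring

/-- A finite dimensional module of the subgroup embeds equivariantly in a power of the functions. -/
theorem exists_embed_module (hF : CharCond i) (V : Type u) [AddCommGroup V] [Module k V] [Module.Finite k V]
    (σ : VecGrp.GMod H V) :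
    ∃ (K : Type u) (_ : Fintype K) (φ : V →ₗ[k] K → Fn G), Function.Injective φ ∧
      ∀ (h : VecGrp.pt k k ⟶ H) (v : V) (l : K), φ (pk σ h v) l = rT (h ≫ i) (φ v l) := by
  classical
  let c := (Module.finBasis k V).reindex (Equiv.ulift.{u}).symm
  let cf : _ → V →ₗ[k] Fn H := fun j =>
    { toFun := coeffFn σ (c.coord j)
      map_add' := fun a b => fn_ext_pts fun g => by simp [evalPt_coeffFn_rat]
      map_smul' := fun r a => fn_ext_pts fun g => by simp [evalPt_coeffFn_rat] }
  have heq : ∀ j h v, cf j (pk σ h v) = rT h (cf j v) := fun j h v => fn_ext_pts fun y => by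
    show evalPt y (coeffFn σ _ _) = evalPt y (rT h (coeffFn σ _ _))
    rw [evalPt_rT, evalPt_coeffFn_rat, evalPt_coeffFn_rat, pk_mul]
  have hst : ∀ j (h : VecGrp.pt k k ⟶ H), ∀ f ∈ LinearMap.range (cf j), rT h f ∈ LinearMap.range (cf j) := by
    rintro j h _ ⟨v, rfl⟩
    exact ⟨pk σ h v, heq j h v⟩
  choose K hK Φ hΦinj hΦ using fun j => exists_embed i hF (LinearMap.range (cf j)) (hst j)
  refine ⟨Σ j, K j, inferInstance, LinearMap.pi fun p => LinearMap.proj p.2 ∘ₗ Φ p.1 ∘ₗ (cf p.1).rangeRestrict,
    ?_, fun h v p => ?_⟩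
  · rw [← LinearMap.ker_eq_bot, LinearMap.ker_eq_bot']
    intro v hv
    refine c.ext_elem fun j => ?_
    have h0 : Φ j ((cf j).rangeRestrict v) = 0 := funext fun l => congrFun hv ⟨j, l⟩
    have h1 : cf j v = 0 := congrArg Subtype.val ((LinearMap.ker_eq_bot'.1 (LinearMap.ker_eq_bot.2 (hΦinj j))) _ h0)
    have h2 := congrArg (evalPt (1 : VecGrp.pt k k ⟶ H)) h1
    simpa [cf, evalPt_coeffFn_rat, pk_one] using h2
  · obtain ⟨j, l⟩ := p
    simp only [LinearMap.pi_apply, LinearMap.comp_apply, LinearMap.proj_apply]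
    rw [show (cf j).rangeRestrict (pk σ h v) = ⟨rT h ((cf j).rangeRestrict v), hst j h _ ((cf j).rangeRestrict v).2⟩
      from Subtype.ext (heq j h v), hΦ j h _ l]

omit [IsAffine G.left] [Smooth G.hom] [IsMonHom i] [IsClosedImmersion i.left] in
/-- A map intertwining the actions of rational points of a reduced group intertwines all points. -/
theorem intertwine_of_rat [IsAffine G.left] {V W : Type u} [AddCommGroup V] [Module k V] [AddCommGroup W] [Module k W]
    (σ : VecGrp.GMod H V) (ρ : VecGrp.GMod G W) (φ : V →ₗ[k] W)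
    (hφ : ∀ (h : VecGrp.pt k k ⟶ H) (v : V), φ (pk σ h v) = pk ρ (h ≫ i) (φ v))
    (B : Type u) [CommRing B] [Algebra k B] (h : VecGrp.pt k B ⟶ H) (x : B ⊗[k] V) :
    φ.baseChange B (σ.ρ B h x) = ρ.ρ B (h ≫ i) (φ.baseChange B x) := by
  induction x using TensorProduct.induction_on with
  | zero => simp
  | add p q hp hq => simp [hp, hq]
  | tmul r v =>
    rw [rho_tmul σ, map_smul, LinearMap.baseChange_tmul, rho_tmul ρ]
    congr 1
    refine eq_of_contract fun ψ => ?_
    have hc : ∀ z : B ⊗[k] V, contract ψ B (φ.baseChange B z) = contract (ψ ∘ₗ φ) B z := by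
      intro z
      induction z using TensorProduct.induction_on with
      | zero => simp
      | tmul c a => simp
      | add p q hp hq => simp [hp, hq]
    rw [hc, ← evalPt_coeffFn, ← evalPt_coeffFn, evalPt_comp_apply]
    congr 1
    exact fn_ext_pts fun y => by
      rw [← evalPt_comp_apply, evalPt_coeffFn_rat, evalPt_coeffFn_rat, LinearMap.comp_apply, hφ]

/-- The character condition gives extensions of modules. -/
theorem extendsAlong_of_charCond (hF : CharCond i) (V : Type u) [AddCommGroup V] [Module k V] [Module.Finite k V]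
    (σ : VecGrp.GMod H V) : σ.ExtendsAlong i := by
  classical
  obtain ⟨K, _, φ, hinj, hφ⟩ := exists_embed_module i hF V σ
  let c := Module.finBasis k V
  obtain ⟨W, hWfin, hsW, hW⟩ := exists_finite_stable (piGMod (J := K) (regRep G)) (Finset.univ.image fun j => φ (c j))
  have hmem : ∀ v, φ v ∈ W := fun v => by
    rw [← c.sum_repr v, map_sum]
    refine Submodule.sum_mem _ fun j _ => ?_
    rw [map_smul]
    exact W.smul_mem _ (hsW (by simp))
  refine ⟨W, inferInstance, inferInstance, hWfin, subGMod (piGMod (regRep G)) hW, φ.codRestrict W hmem,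
    fun a b h => hinj (congrArg Subtype.val h), fun B _ _ h x => ?_⟩
  refine incl_injective B W ?_
  rw [subGMod_incl]
  have hcomp : ∀ z : B ⊗[k] V, W.subtype.baseChange B ((φ.codRestrict W hmem).baseChange B z) = φ.baseChange B z :=
    fun z => by rw [← LinearMap.comp_apply, ← LinearMap.baseChange_comp]; rfl
  rw [hcomp, hcomp]
  exact intertwine_of_rat i σ (piGMod (regRep G)) φ (fun h v => funext fun l => by
    rw [pk_piGMod, pk_regRep, hφ]) B h x

end Groth.AgfChar
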