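import Groth.Agent.AgfChar.Weights
import Groth.Agent.AlgGrp1.Geom

/-! Observability through invariant rational functions on a connected group. -/

set_option autoImplicit false
universe u

open CategoryTheory MonoidalCategory CartesianMonoidalCategory MonObj GrpObj AlgebraicGeometry
open scoped TensorProduct
open Groth.Agf

noncomputable section

namespace Groth.AgfChar

variable {k : Type u} [Field k] [IsAlgClosed k] {G H : Over (Spec (CommRingCat.of k))} [GrpObj G] [GrpObj H]
  [IsAffine G.left] [Smooth G.hom] [IsAffine H.left] [Smooth H.hom] (i : H ⟶ G)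

/-- An invariant fraction, on rational points. -/
def InvFrac (a b : Fn G) : Prop :=
  ∀ (x : VecGrp.pt k k ⟶ G) (h : VecGrp.pt k k ⟶ H),
    evalPt (x * (h ≫ i)) a * evalPt x b = evalPt x a * evalPt (x * (h ≫ i)) b

theorem invFrac_iff (a b : Fn G) :
    ((G ◁ i) ≫ μ[G]).left.appTop a * (fst G H).left.appTop b =
      (fst G H).left.appTop a * ((G ◁ i) ≫ μ[G]).left.appTop b ↔ InvFrac i a b := by
  show pull ((G ◁ i) ≫ μ[G]) a * pull (fst G H) b = pull (fst G H) a * pull ((G ◁ i) ≫ μ[G]) b ↔ _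
  constructor
  · intro e x h
    have := congrArg (evalPt (lift x h)) e
    simpa only [map_mul, ← evalPt_comp_apply, evalPt_mulWhisker, lift_fst, lift_snd] using this
  · intro e
    refine fn_tensor_ext fun x h => ?_
    simpa only [map_mul, ← evalPt_comp_apply, evalPt_mulWhisker, lift_fst, lift_snd] using e x h

variable [IsDomain (Fn G)]

theorem exists_invariant_fraction (hobs : AGF.IsObservableIn k i) {a b : Fn G} (hb : b ≠ 0) (hab : InvFrac i a b) :
    ∃ a' b', AGF.IsRTransInv i a' ∧ AGF.IsRTransInv i b' ∧ b' ≠ 0 ∧ a * b' = a' * b := by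
  have := fn_finiteType G
  let D : Ideal (Fn G) :=
    { carrier := {c | b ∣ c * a}
      add_mem' := fun {c d} hc hd => by
        show b ∣ (c + d) * a
        rw [add_mul]; exact dvd_add hc hd
      zero_mem' := by
        show b ∣ 0 * a
        rw [zero_mul]; exact dvd_zero b
      smul_mem' := fun r c hc => by
        show b ∣ r * c * a
        rw [_root_.mul_assoc]; exact dvd_mul_of_dvd_right hc r }
  have hrel : ∀ h : VecGrp.pt k k ⟶ H, rT (h ≫ i) a * b = a * rT (h ≫ i) b := fun h => fn_ext_pts fun x => by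
    rw [map_mul, map_mul, evalPt_rT, evalPt_rT, hab]
  have hrb : ∀ h : VecGrp.pt k k ⟶ H, rT (h ≫ i) b ≠ 0 := fun h => by
    rw [← map_zero (rT (h ≫ i))]; exact (rT_injective _).ne hb
  have hstab : ∀ (h : VecGrp.pt k k ⟶ H), ∀ c ∈ D, rT (h ≫ i) c ∈ D := by
    rintro h c ⟨e, he⟩
    have he' := congrArg (rT (h ≫ i)) he
    rw [map_mul, map_mul] at he'
    refine ⟨rT (h ≫ i) e, mul_right_cancel₀ (hrb h) ?_⟩
    linear_combination b * he' - rT (h ≫ i) c * hrel h
  have hmin : (⊥ : Ideal (Fn G)).comap (invAlg i).val ∈ minimalPrimes (invAlg i) :=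
    ⟨⟨inferInstance, bot_le⟩, fun q hq hle => fun s hs => by
      have : (s : Fn G) = 0 := hs
      rw [show s = 0 from Subtype.ext this]; exact q.zero_mem⟩
  obtain ⟨c, ⟨e, he⟩, hc0⟩ := exists_mem_notMem (invAlg i) D (saturated_of_obs i hobs D hstab) ⊥ hmin
    (fun hle => hb (hle (show b ∈ D from ⟨a, rfl⟩)))
  refine ⟨e, c, mem_invAlg.1 fun x h => ?_, mem_invAlg.1 c.2, hc0, by rw [mul_comm e b, ← he, mul_comm]⟩
  have hh : rT (h ≫ i) e = e := by
    refine mul_right_cancel₀ (mul_ne_zero (hrb h) hb) ?_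
    have he' := congrArg (rT (h ≫ i)) he
    have hc : rT (h ≫ i) (c : Fn G) = c := fn_ext_pts fun y => by rw [evalPt_rT, c.2 y h]
    rw [map_mul, map_mul, hc] at he'
    linear_combination (-b) * he' + rT (h ≫ i) b * he + (c : Fn G) * hrel h
  rw [← evalPt_rT, hh]

variable [IsMonHom i] [IsClosedImmersion i.left]

theorem obs_of_invariant_fraction
    (hfrac : ∀ a b : Fn G, b ≠ 0 → InvFrac i a b →
      ∃ a' b', AGF.IsRTransInv i a' ∧ AGF.IsRTransInv i b' ∧ b' ≠ 0 ∧ a * b' = a' * b) :
    AGF.IsObservableIn k i := by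
  classical
  intro g hg
  obtain ⟨M, hMfin, hM, hstab⟩ := exists_stabilised i
  let bM := (Module.finBasis k M).reindex (Equiv.ulift.{u}).symm
  let e := fun b => (bM b : Fn G)
  obtain ⟨ψ₀, hψ₀⟩ := exists_dual (e := e) (bM.linearIndependent.map' M.subtype M.ker_subtype)
  have hsemi := semi_minor i hM bM ψ₀ hψ₀
  have h1 := evalPt_one_minor_dual bM ψ₀ hψ₀
  have hne : minor ψ₀ e ≠ 0 := fun h0 => by rw [h0, map_zero] at h1; exact zero_ne_one h1
  have hfix : ∀ f : Fn G, AGF.IsRTransInv i f → rT g f = f := fun f hf => fn_ext_pts fun x => by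
    have := (isRTransInv_iff g f).1 (hg f hf) k x (𝟙 _)
    rw [Category.id_comp] at this
    rw [evalPt_rT, this]
  have key : ∀ ψ, evalPt g (minor ψ e) = evalPt (1 : VecGrp.pt k k ⟶ G) (minor ψ e) * evalPt g (minor ψ₀ e) := by
    intro ψ
    obtain ⟨a', b', ha', hb', hb0, he⟩ := hfrac (minor ψ e) (minor ψ₀ e) hne fun x h => by
      rw [hsemi ψ, hsemi ψ₀]; ring
    have he' := congrArg (rT g) he
    rw [map_mul, map_mul, hfix a' ha', hfix b' hb'] at he'
    have h2 : rT g (minor ψ e) * minor ψ₀ e = minor ψ e * rT g (minor ψ₀ e) :=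
      mul_right_cancel₀ hb0 (by linear_combination minor ψ₀ e * he' - rT g (minor ψ₀ e) * he)
    have h3 := congrArg (evalPt (1 : VecGrp.pt k k ⟶ G)) h2
    rwa [map_mul, map_mul, evalPt_one_rT, evalPt_one_rT, h1, _root_.mul_one] at h3
  have h0 : evalPt g (minor ψ₀ e) ≠ 0 := by
    intro h0
    obtain ⟨ψ, hψ⟩ := exists_dual (e := fun b => rT g (e b))
      (((bM.linearIndependent.map' M.subtype M.ker_subtype)).map' (rT g).toLinearMap
        (LinearMap.ker_eq_bot.2 (rT_injective g)))
    have h3 := key ψ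
    rw [evalPt_minor, show (Matrix.of fun a b => ψ a (rT g (e b))) = (1 : Matrix _ _ k) by
      ext a b; simp [hψ, Matrix.one_apply], Matrix.det_one, h0, mul_zero] at h3
    exact one_ne_zero h3
  refine hstab g fun m hm => rT_mem_of_minors bM ψ₀ g h0 (fun ψ ⟨c, hc⟩ => ?_) hm
  rw [show (fun b => (bM b : Fn G)) = e from rfl, key, evalPt_one_minor,
    Matrix.det_eq_zero_of_row_eq_zero c (fun j => hc _ (bM j).2), zero_mul]

end Groth.AgfChar
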