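import Mathlib.RingTheory.Jacobson.Ring
import Mathlib.RingTheory.LocalRing.ResidueField.Ideal
import Mathlib.RingTheory.FiniteType
import Mathlib.RingTheory.FiniteStability
import Mathlib.RingTheory.Ideal.MinimalPrime.Localization
import Mathlib.FieldTheory.IsAlgClosed.Basic
import Mathlib.RingTheory.TensorProduct.Maps
import Mathlib.RingTheory.Flat.Basic

/-! An ideal saturated for the relation of agreeing on a subalgebra, tested on rational points. -/

set_option autoImplicit false
universe u

open scoped TensorProduct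

noncomputable section

namespace Groth.AgfChar

variable {k A : Type u} [Field k] [CommRing A] [Algebra k A]

/-- Two primes over the same prime of a subalgebra map into a common field, agreeing on the subalgebra. -/
theorem exists_common_field (S : Subalgebra k A) (P P' : Ideal A) [P.IsPrime] [P'.IsPrime]
    (h : P.comap S.val = P'.comap S.val) :
    ∃ (Ω : Type u) (_ : Field Ω) (a b : A →+* Ω), RingHom.ker a = P ∧ RingHom.ker b = P' ∧ ∀ s ∈ S, a s = b s := by
  let Q : Ideal S := P.comap S.val.toRingHom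
  let f₁ : Q.ResidueField →+* P.ResidueField := Ideal.ResidueField.map Q P S.val.toRingHom rfl
  let f₂ : Q.ResidueField →+* P'.ResidueField := Ideal.ResidueField.map Q P' S.val.toRingHom h
  let _ : Algebra Q.ResidueField P.ResidueField := f₁.toAlgebra
  let _ : Algebra Q.ResidueField P'.ResidueField := f₂.toAlgebra
  have : Nontrivial (P.ResidueField ⊗[Q.ResidueField] P'.ResidueField) :=
    (Algebra.TensorProduct.includeLeft_injective (S := Q.ResidueField)
      (algebraMap Q.ResidueField P'.ResidueField).injective).nontrivial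
  obtain ⟨m, hm⟩ := Ideal.exists_maximal (P.ResidueField ⊗[Q.ResidueField] P'.ResidueField)
  let a' : P.ResidueField →+* _ := (Ideal.Quotient.mk m).comp Algebra.TensorProduct.includeLeftRingHom
  let b' : P'.ResidueField →+* _ := (Ideal.Quotient.mk m).comp
    (Algebra.TensorProduct.includeRight (R := Q.ResidueField) (A := P.ResidueField)).toRingHom
  let _ : Field ((P.ResidueField ⊗[Q.ResidueField] P'.ResidueField) ⧸ m) := Ideal.Quotient.field m
  refine ⟨_, inferInstance, a'.comp (algebraMap A _), b'.comp (algebraMap A _), ?_, ?_, fun s hs => ?_⟩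
  · rw [RingHom.ker_comp_of_injective _ a'.injective, Ideal.ker_algebraMap_residueField]
  · rw [RingHom.ker_comp_of_injective _ b'.injective, Ideal.ker_algebraMap_residueField]
  · have e₁ : algebraMap A P.ResidueField s = algebraMap Q.ResidueField P.ResidueField (algebraMap S _ ⟨s, hs⟩) :=
      (Ideal.ResidueField.map_algebraMap (I := Q) (J := P) S.val.toRingHom rfl ⟨s, hs⟩).symm
    have e₂ : algebraMap A P'.ResidueField s = algebraMap Q.ResidueField P'.ResidueField (algebraMap S _ ⟨s, hs⟩) :=
      (Ideal.ResidueField.map_algebraMap (I := Q) (J := P') S.val.toRingHom h ⟨s, hs⟩).symm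
    simp only [RingHom.comp_apply, e₁, e₂, a', b']
    congr 1
    exact AlgHom.commutes (Algebra.TensorProduct.includeLeft (R := Q.ResidueField) (S := Q.ResidueField) (B := P'.ResidueField)) _
      |>.trans (AlgHom.commutes _ _).symm

variable [IsAlgClosed k] [Algebra.FiniteType k A]

/-- A maximal ideal of a finitely generated algebra is the kernel of a rational point. -/
theorem exists_algHom_ker_eq {C : Type u} [CommRing C] [Algebra k C] [Algebra.FiniteType k C] (m : Ideal C)
    [m.IsMaximal] : ∃ φ : C →ₐ[k] k, RingHom.ker φ = m := by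
  let _ : Field (C ⧸ m) := Ideal.Quotient.field m
  have : IsJacobsonRing C := isJacobsonRing_of_finiteType (A := k)
  have : Module.Finite k (C ⧸ m) := finite_of_finite_type_of_isJacobsonRing k (C ⧸ m)
  let e : k ≃ₐ[k] C ⧸ m := AlgEquiv.ofBijective (Algebra.ofId k _)
    (IsAlgClosed.algebraMap_bijective_of_isIntegral (k := k) (K := C ⧸ m))
  refine ⟨e.symm.toAlgHom.comp (Ideal.Quotient.mkₐ k m), Ideal.ext fun x => ?_⟩
  rw [RingHom.mem_ker, AlgHom.comp_apply]
  simp [Ideal.Quotient.eq_zero_iff_mem]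

/-- If `J` is saturated for agreement of rational points on `S`, its prime supersets are saturated for
contraction to `S`. -/
theorem le_of_comap_eq (S : Subalgebra k A) (J : Ideal A)
    (hJ : ∀ φ ψ : A →ₐ[k] k, (∀ s ∈ S, φ s = ψ s) → J ≤ RingHom.ker φ → J ≤ RingHom.ker ψ)
    (P P' : Ideal A) [P.IsPrime] [P'.IsPrime] (h : P.comap S.val = P'.comap S.val) (hJP : J ≤ P) : J ≤ P' := by
  obtain ⟨Ω, _, a, b, ha, hb, hab⟩ := exists_common_field S P P' h
  let _ : Algebra k Ω := (a.comp (algebraMap k A)).toAlgebra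
  let a₁ : A →ₐ[k] Ω := { a with commutes' := fun _ => rfl }
  let b₁ : A →ₐ[k] Ω := { b with commutes' := fun c => (hab _ (S.algebraMap_mem c)).symm }
  let Φ : A ⊗[k] A →ₐ[k] Ω := Algebra.TensorProduct.lift a₁ b₁ fun _ _ => Commute.all _ _
  let p := RingHom.ker Φ
  have hp : p.IsPrime := RingHom.ker_isPrime _
  have : Algebra.FiniteType k (A ⊗[k] A) := Algebra.FiniteType.trans (S := A) inferInstance inferInstance
  have : IsJacobsonRing (A ⊗[k] A) := isJacobsonRing_of_finiteType (A := k)
  intro c hc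
  rw [← hb, RingHom.mem_ker]
  suffices (1 : A) ⊗ₜ[k] c ∈ p.jacobson by
    rw [IsJacobsonRing.out' p hp.isRadical] at this
    simpa [p, Φ, a₁, b₁] using this
  rw [Ideal.jacobson, Submodule.mem_sInf]
  rintro m ⟨hpm, hm⟩
  obtain ⟨χ, hχ⟩ := exists_algHom_ker_eq (k := k) m
  let φ := χ.comp (Algebra.TensorProduct.includeLeft : A →ₐ[k] A ⊗[k] A)
  let ψ := χ.comp (Algebra.TensorProduct.includeRight : A →ₐ[k] A ⊗[k] A)
  have h1 : ∀ s ∈ S, φ s = ψ s := fun s hs => by
    have : s ⊗ₜ[k] (1 : A) - 1 ⊗ₜ s ∈ m := hpm (by simp [p, Φ, a₁, b₁, hab s hs])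
    rw [← hχ, RingHom.mem_ker, map_sub, sub_eq_zero] at this
    exact this
  have h2 : J ≤ RingHom.ker φ := fun d hd => by
    have : d ⊗ₜ[k] (1 : A) ∈ m := hpm (by simp [p, Φ, a₁, b₁, RingHom.mem_ker.1 (ha.ge (hJP hd))])
    rw [← hχ, RingHom.mem_ker] at this
    exact this
  have h3 : ψ c = 0 := hJ φ ψ h1 h2 hc
  rw [← hχ, RingHom.mem_ker]
  exact h3

/-- A saturated ideal not contained in a prime over a minimal prime `Q` of `S` contains an element of `S` outside `Q`. -/
theorem exists_mem_notMem (S : Subalgebra k A) (J : Ideal A)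
    (hJ : ∀ φ ψ : A →ₐ[k] k, (∀ s ∈ S, φ s = ψ s) → J ≤ RingHom.ker φ → J ≤ RingHom.ker ψ)
    (P' : Ideal A) [P'.IsPrime] (hmin : P'.comap S.val ∈ minimalPrimes S) (hJP' : ¬ J ≤ P') :
    ∃ s : S, (s : A) ∈ J ∧ (s : A) ∉ P' := by
  by_contra! hne
  have hle : J.comap S.val.toRingHom ≤ P'.comap S.val := fun s hs => hne s hs
  have hq : P'.comap S.val ∈ (J.comap S.val.toRingHom).minimalPrimes :=
    ⟨⟨inferInstance, hle⟩, fun q hq hle' => hmin.2 ⟨hq.1, bot_le⟩ hle'⟩
  obtain ⟨P, hP, hJP, hPeq⟩ := Ideal.exists_comap_eq_of_mem_minimalPrimes S.val.toRingHom _ hq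
  exact hJP' (le_of_comap_eq S J hJ P P' hPeq hJP)

end Groth.AgfChar
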