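import Groth.Agent.AgfChar.Trans

/-! Semi-invariant functions and the criterion for observability through characters. -/

set_option autoImplicit false
universe u

open CategoryTheory MonoidalCategory CartesianMonoidalCategory MonObj GrpObj AlgebraicGeometry
open scoped TensorProduct
open Groth.Agf

noncomputable section

namespace Groth.AgfChar

variable {k : Type u} [Field k] {G H : Over (Spec (CommRingCat.of k))} [GrpObj G] [GrpObj H]

/-- `f (x h) = u (h) f (x)` on rational points. -/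
def Semi (i : H ⟶ G) (u : Fn H) (f : Fn G) : Prop :=
  ∀ (x : VecGrp.pt k k ⟶ G) (h : VecGrp.pt k k ⟶ H), evalPt (x * (h ≫ i)) f = evalPt h u * evalPt x f

/-- `f (x h) u (h) = f (x)` on rational points. -/
def CoSemi (i : H ⟶ G) (u : Fn H) (f : Fn G) : Prop :=
  ∀ (x : VecGrp.pt k k ⟶ G) (h : VecGrp.pt k k ⟶ H), evalPt (x * (h ≫ i)) f * evalPt h u = evalPt x f

/-- A multiplicative function. -/
def IsMult (u : Fn H) : Prop :=
  ∀ h h' : VecGrp.pt k k ⟶ H, evalPt (h * h') u = evalPt h u * evalPt h' u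

/-- With every semi-invariant weight the inverse weight occurs. -/
def CharCond (i : H ⟶ G) : Prop :=
  ∀ u : Fn H, IsMult u → (∃ f : Fn G, f ≠ 0 ∧ Semi i u f) → ∃ b : Fn G, b ≠ 0 ∧ CoSemi i u b

variable [IsAlgClosed k] [IsAffine G.left] [Smooth G.hom]

theorem Semi.lTrans {i : H ⟶ G} {u : Fn H} {f : Fn G} (hf : Semi i u f) (z : VecGrp.pt k k ⟶ G) :
    Semi i u (lTrans z f) := fun x h => by
  rw [evalPt_lTrans, evalPt_lTrans, cst_self, ← _root_.mul_assoc, hf]

theorem CoSemi.lTrans {i : H ⟶ G} {u : Fn H} {f : Fn G} (hf : CoSemi i u f) (z : VecGrp.pt k k ⟶ G) :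
    CoSemi i u (lTrans z f) := fun x h => by
  rw [evalPt_lTrans, evalPt_lTrans, cst_self, ← _root_.mul_assoc, hf]

theorem CharCond.exists_one_ne_zero {i : H ⟶ G} (hF : CharCond i) {u : Fn H} (hu : IsMult u)
    {f : Fn G} (hf0 : f ≠ 0) (hf : Semi i u f) :
    ∃ b : Fn G, evalPt (1 : VecGrp.pt k k ⟶ G) b ≠ 0 ∧ CoSemi i u b := by
  obtain ⟨b, hb0, hb⟩ := hF u hu ⟨f, hf0, hf⟩
  obtain ⟨z, hz⟩ := exists_lTrans_ne_zero hb0 1
  exact ⟨_, hz, hb.lTrans z⟩

theorem Semi.evalPt_ne_zero {i : H ⟶ G} {u : Fn H} {f : Fn G} (hf : Semi i u f) (hf0 : f ≠ 0)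
    (h : VecGrp.pt k k ⟶ H) : evalPt h u ≠ 0 := by
  obtain ⟨x, hx⟩ := exists_evalPt_ne_zero hf0
  intro h0
  have := hf (x * (h ≫ i)⁻¹) h
  rw [h0, zero_mul, inv_mul_cancel_right] at this
  exact hx this

variable [IsAffine H.left] [Smooth H.hom]

/-- The subalgebra of right invariant functions. -/
def invAlg (i : H ⟶ G) : Subalgebra k (Fn G) where
  carrier := {f | ∀ (x : VecGrp.pt k k ⟶ G) (h : VecGrp.pt k k ⟶ H), evalPt (x * (h ≫ i)) f = evalPt x f}
  mul_mem' := fun {a b} ha hb x h => by rw [map_mul, map_mul, ha, hb]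
  add_mem' := fun {a b} ha hb x h => by rw [map_add, map_add, ha, hb]
  algebraMap_mem' := fun c x h => by rw [AlgHom.commutes, AlgHom.commutes]

theorem mem_invAlg {i : H ⟶ G} {f : Fn G} : f ∈ invAlg i ↔ AGF.IsRTransInv i f :=
  (isRTransInv_iff_rat i f).symm

/-- For an observable subgroup an ideal stable under translation by it is saturated for agreement on invariants. -/
theorem saturated_of_obs (i : H ⟶ G) (hobs : AGF.IsObservableIn k i) (J : Ideal (Fn G))
    (hJ : ∀ (h : VecGrp.pt k k ⟶ H), ∀ c ∈ J, rT (h ≫ i) c ∈ J)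
    (φ ψ : Fn G →ₐ[k] k) (hagree : ∀ s ∈ invAlg i, φ s = ψ s) (hφ : J ≤ RingHom.ker φ) : J ≤ RingHom.ker ψ := by
  have := fn_isReduced_of_smooth G
  obtain ⟨h, hh⟩ := hobs ((ptOf G φ)⁻¹ * ptOf G ψ) (fixes_of_agree i _ _ fun f hf => by
    rw [evalPt_ptOf, evalPt_ptOf]; exact hagree f (mem_invAlg.2 hf))
  intro c hc
  have hh' : ptOf G ψ = ptOf G φ * (h ≫ i) := by rw [hh, mul_inv_cancel_left]
  rw [RingHom.mem_ker, ← evalPt_ptOf (X := G) ψ, hh', ← evalPt_rT, evalPt_ptOf]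
  exact RingHom.mem_ker.1 (hφ (hJ h c hc))

/-- The character condition holds for observable subgroups. -/
theorem charCond_of_obs (i : H ⟶ G) (hobs : AGF.IsObservableIn k i) : CharCond i := by
  rintro u - ⟨f₀, hf₀, hf₀s⟩
  have := fn_finiteType G
  obtain ⟨x₀, -⟩ := exists_evalPt_ne_zero hf₀
  have : Nontrivial (Fn G) := ⟨f₀, 0, hf₀⟩
  obtain ⟨Q, hQ⟩ := Ideal.nonempty_minimalPrimes (I := (⊥ : Ideal (invAlg i))) bot_ne_top
  obtain ⟨P', hP', hP'Q⟩ := Ideal.exists_comap_eq_of_mem_minimalPrimes_of_injective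
    (f := (invAlg i).val.toRingHom) Subtype.val_injective Q hQ
  obtain ⟨m, hm, hPm⟩ := P'.exists_le_maximal hP'.ne_top
  obtain ⟨φ, hφ⟩ := exists_algHom_ker_eq (k := k) m
  obtain ⟨z, hz⟩ := exists_lTrans_ne_zero hf₀ (ptOf G φ)
  rw [evalPt_ptOf] at hz
  set f := Groth.Agf.lTrans z f₀ with hfdef
  have hf : Semi i u f := hf₀s.lTrans z
  have hstab : ∀ (h : VecGrp.pt k k ⟶ H), ∀ c ∈ Ideal.span {f}, rT (h ≫ i) c ∈ Ideal.span {f} := by
    intro h c hc
    obtain ⟨a, rfl⟩ := Ideal.mem_span_singleton'.1 hc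
    have : rT (h ≫ i) f = algebraMap k (Fn G) (evalPt h u) * f := fn_ext_pts fun x => by
      rw [evalPt_rT, hf, map_mul, AlgHom.commutes]; rfl
    rw [map_mul, this, ← _root_.mul_assoc]
    exact Ideal.mul_mem_left _ _ (Ideal.mem_span_singleton_self f)
  obtain ⟨s, hsJ, hsP⟩ := exists_mem_notMem (invAlg i) (Ideal.span {f})
    (saturated_of_obs i hobs _ hstab) P' (hP'Q.symm ▸ hQ : P'.comap (invAlg i).val ∈ _)
    (fun hle => hz (RingHom.mem_ker.1 (hφ.ge (hPm (hle (Ideal.mem_span_singleton_self f))))))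
  obtain ⟨b, hb⟩ := Ideal.mem_span_singleton'.1 hsJ
  refine ⟨(s : Fn G) * b, fun h0 => hsP (hP'.mem_of_pow_mem 2 ?_), fun x h => ?_⟩
  · have e : (s : Fn G) ^ 2 = f * ((s : Fn G) * b) := by
      linear_combination (-(s : Fn G)) * hb
    rw [e, h0, mul_zero]
    exact zero_mem _
  · have hs := s.2 x h
    rw [map_mul, map_mul, hs]
    by_cases h0 : evalPt x f = 0
    · have : evalPt x (s : Fn G) = 0 := by rw [← hb, map_mul, h0, mul_zero]
      rw [this]; simp
    · rw [← hb, map_mul, map_mul, hf] at hs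
      rw [← hb, map_mul]
      have : evalPt (x * (h ≫ i)) b * evalPt h u = evalPt x b :=
        mul_right_cancel₀ h0 (by rw [_root_.mul_assoc, hs])
      rw [_root_.mul_assoc, this]

variable (i : H ⟶ G)

theorem rT_semi_of_semi {u : Fn H} {f : Fn G} (hf : Semi i u f) (h : VecGrp.pt k k ⟶ H) :
    rT (h ≫ i) f = evalPt h u • f :=
  fn_ext_pts fun x => by rw [evalPt_rT, hf, map_smul, smul_eq_mul]

section Minors

variable {J : Type u} [Fintype J] [DecidableEq J] {M : Submodule k (Fn G)}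
  (hM : ∀ (h : VecGrp.pt k k ⟶ H), ∀ m ∈ M, rT (h ≫ i) m ∈ M) (bM : Module.Basis J k M)
  (ψ₀ : J → Fn G →ₗ[k] k) (hψ₀ : ∀ a b, ψ₀ a (bM b) = if a = b then 1 else 0)

/-- The matrix of a rational point of the subgroup on a stable subspace. -/
def blockMat (h : VecGrp.pt k k ⟶ H) : Matrix J J k :=
  Matrix.of fun a b => bM.repr ⟨rT (h ≫ i) (bM b), hM h _ (bM b).2⟩ a

theorem rT_basis (h : VecGrp.pt k k ⟶ H) (b : J) :
    rT (h ≫ i) (bM b : Fn G) = ∑ a, blockMat i hM bM h a b • (bM a : Fn G) := by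
  have e := congrArg Subtype.val (bM.sum_repr ⟨rT (h ≫ i) (bM b), hM h _ (bM b).2⟩)
  simp only [Submodule.coe_sum, Submodule.coe_smul] at e
  exact e.symm

include hψ₀ in
theorem evalPt_one_minor_dual : evalPt (1 : VecGrp.pt k k ⟶ G) (minor ψ₀ fun b => (bM b : Fn G)) = 1 := by
  rw [evalPt_one_minor, show (Matrix.of fun a b => ψ₀ a (bM b : Fn G)) = (1 : Matrix J J k) by
    ext a b; simp [hψ₀, Matrix.one_apply], Matrix.det_one]

include hψ₀ hM in
theorem evalPt_weight (h : VecGrp.pt k k ⟶ H) :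
    evalPt h (pull i (minor ψ₀ fun b => (bM b : Fn G))) = (blockMat i hM bM h).det := by
  rw [← evalPt_comp_apply, ← _root_.one_mul (h ≫ i),
    evalPt_mul_minor ψ₀ _ _ _ (h ≫ i) (rT_basis i hM bM h), evalPt_one_minor_dual bM ψ₀ hψ₀, _root_.one_mul]

include hψ₀ hM in
/-- All minors are semi-invariant of the same weight. -/
theorem semi_minor (ψ : J → Fn G →ₗ[k] k) :
    Semi i (pull i (minor ψ₀ fun b => (bM b : Fn G))) (minor ψ fun b => (bM b : Fn G)) := fun x h => by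
  rw [evalPt_mul_minor ψ _ _ _ (h ≫ i) (rT_basis i hM bM h), evalPt_weight i hM bM ψ₀ hψ₀, mul_comm]

include hψ₀ hM in
theorem isMult_weight [IsMonHom i] : IsMult (pull i (minor ψ₀ fun b => (bM b : Fn G))) := fun h h' => by
  rw [← evalPt_comp_apply, MonObj.mul_comp, semi_minor i hM bM ψ₀ hψ₀ ψ₀, mul_comm]
  rfl

end Minors

variable [IsMonHom i] [IsClosedImmersion i.left]

theorem pull_surjective : Function.Surjective (pull i) :=
  i.left.app_surjective ⊤ (isAffineOpen_top _)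

/-- The ideal of the subgroup. -/
theorem exists_hom_of_vanish (g : VecGrp.pt k k ⟶ G) (hg : ∀ f : Fn G, pull i f = 0 → evalPt g f = 0) :
    ∃ h : VecGrp.pt k k ⟶ H, h ≫ i = g := by
  have hker : ∀ f ∈ RingHom.ker (pull i), evalPt g f = 0 := fun f hf => hg f (RingHom.mem_ker.1 hf)
  let e := Ideal.quotientKerAlgEquivOfSurjective (pull_surjective i)
  refine ⟨ptOf H ((Ideal.Quotient.liftₐ _ (evalPt g) hker).comp e.symm.toAlgHom), pt_ext ?_⟩
  rw [evalPt_comp, evalPt_ptOf]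
  refine AlgHom.ext fun f => ?_
  show Ideal.Quotient.liftₐ _ (evalPt g) hker (e.symm (pull i f)) = evalPt g f
  rw [show e.symm (pull i f) = Ideal.Quotient.mk _ f from e.injective (by rw [AlgEquiv.apply_symm_apply]; rfl)]
  rfl

/-- A finite dimensional stable space whose stabiliser is the subgroup. -/
theorem exists_stabilised :
    ∃ M : Submodule k (Fn G), Module.Finite k M ∧ (∀ (h : VecGrp.pt k k ⟶ H), ∀ m ∈ M, rT (h ≫ i) m ∈ M) ∧
      ∀ g : VecGrp.pt k k ⟶ G, (∀ m ∈ M, rT g m ∈ M) → ∃ h : VecGrp.pt k k ⟶ H, h ≫ i = g := by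
  classical
  have := fn_isNoetherianRing G
  obtain ⟨s, hs⟩ := (IsNoetherian.noetherian (RingHom.ker (pull i)) : (RingHom.ker (pull i)).FG)
  obtain ⟨W, hWfin, hsW, hW⟩ := exists_rT_stable s
  let M : Submodule k (Fn G) := W ⊓ LinearMap.ker (pull i).toLinearMap
  have hMfin : Module.Finite k M := Submodule.finiteDimensional_of_le (inf_le_left : M ≤ W)
  refine ⟨M, hMfin, fun h m hm => ⟨hW _ m hm.1, ?_⟩, fun g hg => exists_hom_of_vanish i g fun f hf => ?_⟩
  · show pull i (rT (h ≫ i) m) = 0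
    rw [pull_rT, show pull i m = 0 from hm.2, map_zero]
  · have hf' : f ∈ Ideal.span (s : Set (Fn G)) := hs.ge (RingHom.mem_ker.2 hf)
    refine Submodule.span_induction (fun a ha => ?_) (map_zero _) (fun a b _ _ ha hb => by rw [map_add, ha, hb, add_zero])
      (fun c a _ ha => by rw [smul_eq_mul, map_mul, ha, mul_zero]) hf'
    have haI : pull i a = 0 := RingHom.mem_ker.1 (hs.le (Ideal.subset_span ha))
    have h1 : pull i (rT g a) = 0 := (hg a ⟨hsW ha, haI⟩).2
    have h2 := evalPt_one_rT g a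
    rw [← MonObj.one_comp i, evalPt_comp_apply, h1, map_zero] at h2
    exact h2.symm

/-- The character condition implies observability. -/
theorem obs_of_charCond (hF : CharCond i) : AGF.IsObservableIn k i := by
  classical
  intro g hg
  obtain ⟨M, hMfin, hM, hstab⟩ := exists_stabilised i
  let bM := Module.finBasis k M
  let bM' := bM.reindex (Equiv.ulift.{u}).symm
  obtain ⟨ψ₀, hψ₀⟩ := exists_dual (e := fun b => (bM' b : Fn G))
    (bM'.linearIndependent.map' M.subtype M.ker_subtype)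
  have hsemi := semi_minor i hM bM' ψ₀ hψ₀
  have h1 := evalPt_one_minor_dual bM' ψ₀ hψ₀
  obtain ⟨b, hb1, hb⟩ := hF.exists_one_ne_zero (isMult_weight i hM bM' ψ₀ hψ₀)
    (f := minor ψ₀ fun b => (bM' b : Fn G)) (fun h0 => by rw [h0, map_zero] at h1; exact zero_ne_one h1) (hsemi ψ₀)
  have hinv : ∀ ψ, evalPt g (minor ψ (fun b => (bM' b : Fn G))) * evalPt g b =
      evalPt (1 : VecGrp.pt k k ⟶ G) (minor ψ fun b => (bM' b : Fn G)) * evalPt 1 b := by
    intro ψ
    rw [← map_mul, ← map_mul]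
    refine evalPt_one_of_isRTransInv (hg _ (mem_invAlg.1 fun x h => ?_))
    rw [map_mul, hsemi ψ, map_mul, ← hb x h]
    ring
  have h0 : evalPt g (minor ψ₀ fun b => (bM' b : Fn G)) ≠ 0 ∧ evalPt g b ≠ 0 := by
    rw [← mul_ne_zero_iff, hinv, h1, _root_.one_mul]; exact hb1
  refine hstab g fun m hm => rT_mem_of_minors bM' ψ₀ g h0.1 (fun ψ ⟨c, hc⟩ => ?_) hm
  have := hinv ψ
  rw [evalPt_one_minor, Matrix.det_eq_zero_of_row_eq_zero c (fun j => hc _ (bM' j).2), zero_mul] at this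
  exact (mul_eq_zero.1 this).resolve_right h0.2

theorem obs_iff_charCond : AGF.IsObservableIn k i ↔ CharCond i :=
  ⟨charCond_of_obs i, obs_of_charCond i⟩

end Groth.AgfChar
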