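import Groth.Agent.Agf.ObsIdentity
import Groth.Agent.AgfChar.KeyLemma
import Mathlib.LinearAlgebra.Matrix.Adjugate
import Mathlib.LinearAlgebra.Matrix.Determinant.Basic
import Mathlib.LinearAlgebra.Dual.Lemmas

/-! Translations by rational points, matrix coefficients and their minors. -/

set_option autoImplicit false
universe u

open CategoryTheory MonoidalCategory CartesianMonoidalCategory MonObj GrpObj AlgebraicGeometry
open scoped TensorProduct
open Groth.Agf

noncomputable section

namespace Groth.AgfChar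

variable {k : Type u} [Field k]

section Pk

variable {G : Over (Spec (CommRingCat.of k))} [GrpObj G] {V : Type u} [AddCommGroup V] [Module k V]

/-- The action of a rational point. -/
def pk (ρ : VecGrp.GMod G V) (g : VecGrp.pt k k ⟶ G) : V →ₗ[k] V :=
  (TensorProduct.lid k V).toLinearMap ∘ₗ (ρ.ρ k g).toLinearMap ∘ₗ (TensorProduct.lid k V).symm.toLinearMap

theorem one_tmul_pk (ρ : VecGrp.GMod G V) (g : VecGrp.pt k k ⟶ G) (v : V) :
    (1 : k) ⊗ₜ[k] pk ρ g v = ρ.ρ k g ((1 : k) ⊗ₜ[k] v) :=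
  (TensorProduct.lid k V).symm_apply_apply _

theorem pk_mul (ρ : VecGrp.GMod G V) (g g' : VecGrp.pt k k ⟶ G) (v : V) :
    pk ρ (g * g') v = pk ρ g (pk ρ g' v) := by
  apply (TensorProduct.lid k V).symm.injective
  simp only [TensorProduct.lid_symm_apply, one_tmul_pk, rho_mul_apply]

theorem pk_one (ρ : VecGrp.GMod G V) (v : V) : pk ρ 1 v = v := by
  apply (TensorProduct.lid k V).symm.injective
  simp only [TensorProduct.lid_symm_apply, one_tmul_pk, map_one]
  rfl

theorem contract_eq (ψ : V →ₗ[k] k) (z : k ⊗[k] V) : contract ψ k z = ψ (TensorProduct.lid k V z) := by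
  induction z using TensorProduct.induction_on with
  | zero => simp
  | tmul c v => simp [mul_comm]
  | add p q hp hq => simp [hp, hq]

theorem evalPt_coeffFn_rat [IsAffine G.left] (ρ : VecGrp.GMod G V) (ψ : V →ₗ[k] k) (v : V)
    (g : VecGrp.pt k k ⟶ G) : evalPt g (coeffFn ρ ψ v) = ψ (pk ρ g v) := by
  rw [evalPt_coeffFn, contract_eq]
  rfl

end Pk

section RT

variable {G H : Over (Spec (CommRingCat.of k))} [GrpObj G] [GrpObj H] [IsAffine G.left] [IsAffine H.left]

/-- Right translation by a rational point. -/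
def rT (g : VecGrp.pt k k ⟶ G) : Fn G →ₐ[k] Fn G := pull (𝟙 G * (toUnit G ≫ lTrans.toUnit' ≫ g))

theorem evalPt_rT (x g : VecGrp.pt k k ⟶ G) (f : Fn G) : evalPt x (rT g f) = evalPt (x * g) f := by
  rw [rT, ← evalPt_comp_apply, MonObj.comp_mul, Category.comp_id, cst_comp]

theorem evalPt_one_rT (g : VecGrp.pt k k ⟶ G) (f : Fn G) : evalPt (1 : VecGrp.pt k k ⟶ G) (rT g f) = evalPt g f := by
  rw [evalPt_rT, _root_.one_mul]

theorem pk_piGMod {J : Type u} [Fintype J] [DecidableEq J] {V : Type u} [AddCommGroup V] [Module k V]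
    (ρ : VecGrp.GMod G V) (g : VecGrp.pt k k ⟶ G) (v : J → V) (j : J) :
    pk (piGMod ρ) g v j = pk ρ g (v j) := by
  apply (TensorProduct.lid k V).symm.injective
  have h := piGMod_apply ρ g ((1 : k) ⊗ₜ[k] v) j
  rw [← one_tmul_pk, TensorProduct.piRight_apply, TensorProduct.piRightHom_tmul, TensorProduct.piRight_apply,
    TensorProduct.piRightHom_tmul] at h
  simp only [TensorProduct.lid_symm_apply, one_tmul_pk]
  exact h

variable [IsAlgClosed k] [Smooth G.hom]

theorem fn_ext_pts {a b : Fn G} (h : ∀ g : VecGrp.pt k k ⟶ G, evalPt g a = evalPt g b) : a = b :=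
  have := fn_isReduced_of_smooth G
  fn_ext_ratPts G h

theorem exists_evalPt_ne_zero {f : Fn G} (hf : f ≠ 0) : ∃ x : VecGrp.pt k k ⟶ G, evalPt x f ≠ 0 := by
  by_contra! h
  exact hf (fn_ext_pts fun g => by rw [h g, map_zero])

theorem isUnit_of_forall_ne_zero {f : Fn G} (h : ∀ x : VecGrp.pt k k ⟶ G, evalPt x f ≠ 0) : IsUnit f := by
  by_contra hu
  obtain ⟨m, hm, hfm⟩ := exists_max_ideal_of_mem_nonunits hu
  have := fn_finiteType G
  obtain ⟨φ, hφ⟩ := exists_algHom_ker_eq (k := k) m
  refine h (ptOf G φ) ?_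
  rw [evalPt_ptOf]
  exact RingHom.mem_ker.1 (hφ.ge hfm)

theorem exists_lTrans_ne_zero {f : Fn G} (hf : f ≠ 0) (y : VecGrp.pt k k ⟶ G) :
    ∃ z : VecGrp.pt k k ⟶ G, evalPt y (lTrans z f) ≠ 0 := by
  obtain ⟨x, hx⟩ := exists_evalPt_ne_zero hf
  exact ⟨x * y⁻¹, by rwa [evalPt_lTrans, cst_self, inv_mul_cancel_right]⟩

theorem rT_one (f : Fn G) : rT 1 f = f := fn_ext_pts fun x => by rw [evalPt_rT, _root_.mul_one]

theorem rT_mul (g g' : VecGrp.pt k k ⟶ G) (f : Fn G) : rT (g * g') f = rT g (rT g' f) :=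
  fn_ext_pts fun x => by rw [evalPt_rT, evalPt_rT, evalPt_rT, _root_.mul_assoc]

theorem rT_injective (g : VecGrp.pt k k ⟶ G) : Function.Injective (rT g) :=
  Function.LeftInverse.injective (g := rT g⁻¹) fun f => by rw [← rT_mul, inv_mul_cancel, rT_one]

theorem lid_rTransAlg (g : VecGrp.pt k k ⟶ G) (f : Fn G) :
    TensorProduct.lid k (Fn G) (rTransAlg g f) = rT g f := by
  refine fn_ext_pts fun x => ?_
  let Φ : k ⊗[k] Fn G →ₐ[k] k :=
    Algebra.TensorProduct.lift (Algebra.ofId k k) (evalPt x) fun _ _ => Commute.all _ _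
  have hΦ : ∀ z, evalPt x (TensorProduct.lid k (Fn G) z) = Φ z := by
    intro z
    induction z using TensorProduct.induction_on with
    | zero => simp
    | tmul c a => simp [Φ]
    | add p q hp hq => simp [hp, hq]
  rw [hΦ, rTransAlg, ← AlgHom.comp_apply, ← evalPt_ptMap, MonObj.comp_mul, evalPt_rT]
  congr 3
  · apply pt_ext
    rw [evalPt_ptMap, evalPt_ptMap, evalPt_univ, AlgHom.comp_id]
    refine AlgHom.ext fun a => ?_
    simp [Φ]
  · refine Eq.trans ?_ (cst_self g)
    apply pt_ext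
    rw [evalPt_ptMap, evalPt_ptMap, cst, evalPt_ptMap, ← AlgHom.comp_assoc]
    congr 1
    exact Subsingleton.elim _ _

theorem pk_regRep (g : VecGrp.pt k k ⟶ G) (f : Fn G) : pk (regRep G) g f = rT g f := by
  rw [← lid_rTransAlg, ← regRep_apply]
  rfl

/-- Finite dimensional subspaces stable under translations. -/
theorem exists_rT_stable (s : Finset (Fn G)) :
    ∃ W : Submodule k (Fn G), Module.Finite k W ∧ ↑s ⊆ (W : Set (Fn G)) ∧
      ∀ g : VecGrp.pt k k ⟶ G, ∀ f ∈ W, rT g f ∈ W := by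
  obtain ⟨W, hW, hs, hst⟩ := exists_finite_stable (regRep G) s
  refine ⟨W, hW, hs, fun g f hf => ?_⟩
  have h := hst k g f hf
  rw [Category.comp_id, ← one_tmul_pk, pk_regRep] at h
  by_contra hne
  obtain ⟨ξ, hξ, hξW⟩ := Submodule.exists_dual_map_eq_bot_of_notMem hne inferInstance
  have := mem_baseChange_iff.1 h ξ fun w hw => by
    have := hξW.le (Submodule.mem_map_of_mem hw)
    simpa using this
  rw [contract_tmul, smul_eq_mul, _root_.mul_one] at this
  exact hξ this

variable [Smooth H.hom]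

theorem pull_rT (i : H ⟶ G) [IsMonHom i] (h : VecGrp.pt k k ⟶ H) (f : Fn G) :
    pull i (rT (h ≫ i) f) = rT h (pull i f) :=
  fn_ext_pts fun y => by
    rw [← evalPt_comp_apply, evalPt_rT, evalPt_rT, ← evalPt_comp_apply, MonObj.mul_comp]

/-- A matrix coefficient of the regular representation. -/
def coef : (Fn G →ₗ[k] k) → Fn G →ₗ[k] Fn G := fun ψ =>
  { toFun := coeffFn (regRep G) ψ
    map_add' := fun a b => fn_ext_pts fun g => by simp [evalPt_coeffFn_rat]
    map_smul' := fun c a => fn_ext_pts fun g => by simp [evalPt_coeffFn_rat] }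

theorem evalPt_coef (ψ : Fn G →ₗ[k] k) (f : Fn G) (g : VecGrp.pt k k ⟶ G) :
    evalPt g (coef ψ f) = ψ (rT g f) := by
  show evalPt g (coeffFn _ _ _) = _
  rw [evalPt_coeffFn_rat, pk_regRep]

variable {J : Type*} [Fintype J] [DecidableEq J]

/-- A minor of the matrix of the translates of a family of functions. -/
def minor (ψ : J → Fn G →ₗ[k] k) (e : J → Fn G) : Fn G :=
  (Matrix.of fun a b => coef (ψ a) (e b)).det

theorem evalPt_minor (ψ : J → Fn G →ₗ[k] k) (e : J → Fn G) (g : VecGrp.pt k k ⟶ G) :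
    evalPt g (minor ψ e) = (Matrix.of fun a b => ψ a (rT g (e b))).det := by
  rw [minor, AlgHom.map_det]
  congr 1
  ext a b
  simp [evalPt_coef]

theorem evalPt_one_minor (ψ : J → Fn G →ₗ[k] k) (e : J → Fn G) :
    evalPt (1 : VecGrp.pt k k ⟶ G) (minor ψ e) = (Matrix.of fun a b => ψ a (e b)).det := by
  simp [evalPt_minor, rT_one]

theorem evalPt_mul_minor (ψ : J → Fn G →ₗ[k] k) (e e' : J → Fn G) (D : Matrix J J k)
    (h : VecGrp.pt k k ⟶ G) (hD : ∀ b, rT h (e b) = ∑ a, D a b • e' a) (x : VecGrp.pt k k ⟶ G) :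
    evalPt (x * h) (minor ψ e) = evalPt x (minor ψ e') * D.det := by
  rw [evalPt_minor, evalPt_minor, ← Matrix.det_mul]
  congr 1
  ext a b
  simp [Matrix.mul_apply, rT_mul, hD, mul_comm]

/-- Dual functionals of an independent family. -/
theorem exists_dual {J : Type*} [Fintype J] [DecidableEq J] {V : Type u} [AddCommGroup V] [Module k V]
    {e : J → V} (he : LinearIndependent k e) :
    ∃ ψ : J → V →ₗ[k] k, ∀ a b, ψ a (e b) = if a = b then 1 else 0 := by
  obtain ⟨l, hl⟩ := LinearMap.exists_leftInverse_of_injective (Fintype.linearCombination k e)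
    (LinearMap.ker_eq_bot.2 he.fintypeLinearCombination_injective)
  refine ⟨fun a => LinearMap.proj a ∘ₗ l, fun a b => ?_⟩
  have := congrFun (LinearMap.congr_fun hl (Pi.single b 1)) a
  simp only [LinearMap.comp_apply, Fintype.linearCombination_apply_single, one_smul, LinearMap.id_apply] at this
  rw [LinearMap.comp_apply, LinearMap.proj_apply, this, Pi.single_apply]

variable {M : Submodule k (Fn G)} (bM : Module.Basis J k M)

/-- Cramer's rule: a point all whose minors are proportional to those at the identity preserves `M`. -/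
theorem rT_mem_of_minors (ψ₀ : J → Fn G →ₗ[k] k) (g : VecGrp.pt k k ⟶ G)
    (h0 : evalPt g (minor ψ₀ fun b => (bM b : Fn G)) ≠ 0)
    (h : ∀ ψ : J → Fn G →ₗ[k] k, (∃ c, ∀ m ∈ M, ψ c m = 0) → evalPt g (minor ψ fun b => (bM b : Fn G)) = 0)
    {m : Fn G} (hm : m ∈ M) : rT g m ∈ M := by
  by_contra hne
  obtain ⟨ξ, hξ, hξM⟩ := Submodule.exists_dual_map_eq_bot_of_notMem hne inferInstance
  have hξ' : ∀ m ∈ M, ξ m = 0 := fun m hm => by simpa using hξM.le (Submodule.mem_map_of_mem hm)
  let C : Matrix J J k := Matrix.of fun a b => ψ₀ a (rT g (bM b))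
  let v : J → k := fun b => ξ (rT g (bM b))
  have hc : C.transpose.cramer v = 0 := by
    funext c
    rw [Matrix.cramer_transpose_apply, Pi.zero_apply, ← h (Function.update ψ₀ c ξ) ⟨c, by simpa using hξ'⟩,
      evalPt_minor]
    congr 1
    ext a b
    by_cases hac : a = c
    · subst hac; simp [v]
    · simp [C, hac]
  have hv : v = 0 := by
    have hh := C.transpose.mulVec_cramer v
    rw [hc, Matrix.mulVec_zero, Matrix.det_transpose] at hh
    exact (smul_eq_zero.1 hh.symm).resolve_left (by rwa [evalPt_minor] at h0)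
  apply hξ
  have e := congrArg (fun z => ξ (rT g (Subtype.val z))) (bM.sum_repr ⟨m, hm⟩)
  simp only [Submodule.coe_sum, Submodule.coe_smul, map_sum, map_smul] at e
  rw [← e]
  exact Finset.sum_eq_zero fun b _ => by rw [show ξ (rT g (bM b)) = v b from rfl, hv, Pi.zero_apply, smul_zero]

end RT

end Groth.AgfChar
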