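import Groth.Agent.AgfChar.Embed
import Groth.Agent.Reductive.Points

/-! Weights as characters, and consequences of the criterion. -/

set_option autoImplicit false
universe u

open CategoryTheory MonoidalCategory CartesianMonoidalCategory MonObj GrpObj AlgebraicGeometry
open scoped TensorProduct
open Groth.Agf

noncomputable section

namespace Groth.AgfChar

variable {k : Type u} [Field k] [IsAlgClosed k] {G H : Over (Spec (CommRingCat.of k))} [GrpObj G] [GrpObj H]
  [IsAffine G.left] [Smooth G.hom] [IsAffine H.left] [Smooth H.hom]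

theorem fn_tensor_ext {X Y : Over (Spec (CommRingCat.of k))} [IsAffine X.left] [IsAffine Y.left] [Smooth X.hom]
    [Smooth Y.hom] {a b : Fn (X ⊗ Y)}
    (h : ∀ (x : VecGrp.pt k k ⟶ X) (y : VecGrp.pt k k ⟶ Y), evalPt (lift x y) a = evalPt (lift x y) b) : a = b := by
  have := tensor_isAffine X Y
  have := tensor_lft X Y
  have : Smooth (X ⊗ Y).hom := inferInstanceAs (Smooth (Limits.pullback.fst X.hom Y.hom ≫ X.hom))
  have := fn_isReduced_of_smooth (X ⊗ Y)
  refine fn_ext_ratPts (X ⊗ Y) fun z => ?_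
  rw [← lift_comp_fst_snd z, h]

theorem IsMult.pull_mul {u : Fn H} (hu : IsMult u) :
    pull μ[H] u = pull (fst H H) u * pull (snd H H) u :=
  fn_tensor_ext fun x y => by
    rw [map_mul, ← evalPt_comp_apply, ← evalPt_comp_apply, ← evalPt_comp_apply, lift_fst, lift_snd,
      show lift x y ≫ μ[H] = x * y from (Hom.mul_def x y).symm, hu]

theorem IsMult.evalPt_mul {u : Fn H} (hu : IsMult u) {B : Type u} [CommRing B] [Algebra k B]
    (h h' : VecGrp.pt k B ⟶ H) : evalPt (h * h') u = evalPt h u * evalPt h' u := by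
  rw [Hom.mul_def, evalPt_comp_apply, hu.pull_mul, map_mul, ← evalPt_comp_apply, ← evalPt_comp_apply, lift_fst,
    lift_snd]

theorem IsMult.evalPt_one {u : Fn H} (hu : IsMult u) (h0 : IsUnit u) {B : Type u} [CommRing B] [Algebra k B] :
    evalPt (1 : VecGrp.pt k B ⟶ H) u = 1 := by
  have h := hu.evalPt_mul (1 : VecGrp.pt k B ⟶ H) 1
  rw [_root_.one_mul] at h
  exact (h0.map (evalPt (1 : VecGrp.pt k B ⟶ H))).mul_eq_left.1 h.symm

/-- The one dimensional module of a weight. -/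
def lineGMod (u : (Fn H)ˣ) (hu : IsMult (u : Fn H)) : VecGrp.GMod H k where
  ρ B _ _ :=
    { toFun := fun h => LinearEquiv.smulOfUnit (Units.map (evalPt h : Fn H →* B) u)
      map_one' := LinearEquiv.ext fun x => by
        show evalPt (1 : VecGrp.pt k B ⟶ H) (u : Fn H) • x = x
        rw [hu.evalPt_one u.isUnit, one_smul]
      map_mul' := fun g h => LinearEquiv.ext fun x => by
        show evalPt (g * h) (u : Fn H) • x = evalPt g (u : Fn H) • evalPt h (u : Fn H) • x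
        rw [hu.evalPt_mul, mul_smul] }
  naturality {B B'} _ _ _ _ φ g x := by
    show VecGrp.Wmap φ (evalPt g (u : Fn H) • x) = evalPt (VecGrp.ptMap φ ≫ g) (u : Fn H) • VecGrp.Wmap φ x
    rw [VecGrp.Wmap_smul, evalPt_ptMap]
    rfl

theorem pk_lineGMod (u : (Fn H)ˣ) (hu : IsMult (u : Fn H)) (h : VecGrp.pt k k ⟶ H) :
    pk (lineGMod u hu) h 1 = evalPt h (u : Fn H) := by
  show TensorProduct.lid k k (evalPt h (u : Fn H) • ((TensorProduct.lid k k).symm 1)) = _
  simp [TensorProduct.smul_tmul', TensorProduct.lid_tmul]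

theorem pk_of_weight {V : Type u} [AddCommGroup V] [Module k V] (ρ : VecGrp.GMod G V) (g : VecGrp.pt k k ⟶ G)
    (v : V) (c : k) (h : ρ.ρ k g ((1 : k) ⊗ₜ[k] v) = c • ((1 : k) ⊗ₜ[k] v)) : pk ρ g v = c • v := by
  apply (TensorProduct.lid k V).symm.injective
  simp only [TensorProduct.lid_symm_apply]
  rw [one_tmul_pk, h, TensorProduct.tmul_smul]

/-- An eigenvector gives a non-zero semi-invariant function. -/
theorem exists_fn_of_vector (i : H ⟶ G) {V : Type u} [AddCommGroup V] [Module k V] (ρ : VecGrp.GMod G V) {v : V}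
    (hv : v ≠ 0) (u : Fn H) (hw : ∀ h : VecGrp.pt k k ⟶ H, pk ρ (h ≫ i) v = evalPt h u • v) :
    ∃ f : Fn G, f ≠ 0 ∧ Semi i u f := by
  obtain ⟨ψ, hψ⟩ := Module.Projective.exists_dual_ne_zero k hv
  refine ⟨coeffFn ρ ψ v, fun h0 => hψ ?_, fun x h => ?_⟩
  · have := congrArg (evalPt (1 : VecGrp.pt k k ⟶ G)) h0
    rwa [map_zero, evalPt_coeffFn_rat, pk_one] at this
  · rw [evalPt_coeffFn_rat, pk_mul, hw, map_smul, map_smul, evalPt_coeffFn_rat, smul_eq_mul]

variable (i : H ⟶ G)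

/-- A semi-invariant function gives an eigenvector in a finite dimensional module. -/
theorem exists_vector_of_fn {f : Fn G} (hf0 : f ≠ 0) {u : Fn H}
    (hf : ∀ h : VecGrp.pt k k ⟶ H, rT (h ≫ i) f = evalPt h u • f) :
    ∃ (V : Type u) (_ : AddCommGroup V) (_ : Module k V) (_ : Module.Finite k V) (ρ : VecGrp.GMod G V) (v : V), v ≠ 0 ∧
      ∀ (B : Type u) [CommRing B] [Algebra k B] (h : VecGrp.pt k B ⟶ H),
        ρ.ρ B (h ≫ i) ((1 : B) ⊗ₜ[k] v) = evalPt h u • ((1 : B) ⊗ₜ[k] v) := by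
  obtain ⟨W, hWfin, hfW, hW⟩ := exists_finite_stable (regRep G) {f}
  have hfm : f ∈ W := hfW (by simp)
  refine ⟨W, inferInstance, inferInstance, hWfin, subGMod (regRep G) hW, ⟨f, hfm⟩,
    fun h0 => hf0 (congrArg Subtype.val h0), fun B _ _ h => ?_⟩
  refine incl_injective B W ?_
  rw [subGMod_incl, map_smul]
  simp only [LinearMap.baseChange_tmul, Submodule.subtype_apply]
  refine eq_of_contract fun ψ => ?_
  rw [← evalPt_coeffFn, evalPt_comp_apply, contract_smul, contract_tmul,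
    show pull i (coeffFn (regRep G) ψ f) = ψ f • u from fn_ext_pts fun y => by
      rw [← evalPt_comp_apply, evalPt_coeffFn_rat, pk_regRep, hf, map_smul, map_smul, smul_eq_mul, smul_eq_mul,
        mul_comm],
    map_smul, mul_smul_comm, _root_.mul_one]

theorem Semi.isUnit {i : H ⟶ G} {u : Fn H} {f : Fn G} (hf : Semi i u f) (hf0 : f ≠ 0) : IsUnit u :=
  isUnit_of_forall_ne_zero fun h => hf.evalPt_ne_zero hf0 h

theorem chiVal_eq (χ : H ⟶ Red.Gm (Spec (CommRingCat.of k))) {B : Type u} [CommRing B] [Algebra k B]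
    (h : VecGrp.pt k B ⟶ H) : VecGrp.chiVal χ h = evalPt h (Red.gmFn χ) := by
  rw [VecGrp.chiVal, Reductive.gmFn_comp]
  rfl

theorem isMult_gmFn (χ : H ⟶ Red.Gm (Spec (CommRingCat.of k))) [IsMonHom χ] : IsMult (Red.gmFn χ) := fun h h' => by
  rw [← chiVal_eq, ← chiVal_eq, ← chiVal_eq, VecGrp.chiVal, VecGrp.chiVal, VecGrp.chiVal,
    show (h * h') ≫ χ = (h ≫ χ) * (h' ≫ χ) from MonObj.mul_comp h h' χ, Reductive.gmFn_mul, map_mul]

/-- A multiplicative unit is a character. -/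
theorem exists_char {u : Fn H} (hu : IsMult u) (hunit : IsUnit u) :
    ∃ χ : H ⟶ Red.Gm (Spec (CommRingCat.of k)), IsMonHom χ ∧ Red.gmFn χ = u := by
  refine ⟨Reductive.gmMk H hunit.unit, ⟨?_, ?_⟩, Reductive.gmFn_gmMk _⟩
  · refine Reductive.gmFn_injective ?_
    rw [Reductive.gmFn_comp, Reductive.gmFn_gmMk, IsUnit.unit_spec]
    show pull η[H] u = _
    rw [show (η[Red.Gm (Spec (CommRingCat.of k))] : 𝟙_ _ ⟶ _) = 1 by simp [Hom.one_def], Reductive.gmFn_one]
    have h := congrArg (pull (lift η[H] η[H])) hu.pull_mul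
    rw [map_mul, ← pull_comp, ← pull_comp, ← pull_comp, lift_fst, lift_snd,
      show lift η[H] η[H] ≫ μ[H] = η[H] from by
        rw [← Hom.mul_def, show (η[H] : 𝟙_ _ ⟶ H) = 1 by simp [Hom.one_def], _root_.mul_one]] at h
    exact (hunit.map (pull η[H])).mul_eq_left.1 h.symm
  · refine Reductive.gmFn_injective ?_
    have e : ((Reductive.gmMk H hunit.unit) ⊗ₘ (Reductive.gmMk H hunit.unit)) ≫ μ[Red.Gm (Spec (CommRingCat.of k))] =
        (fst H H ≫ Reductive.gmMk H hunit.unit) * (snd H H ≫ Reductive.gmMk H hunit.unit) := by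
      rw [Hom.mul_def]; congr 1
    rw [Reductive.gmFn_comp, Reductive.gmFn_gmMk, e, Reductive.gmFn_mul, Reductive.gmFn_comp, Reductive.gmFn_comp,
      Reductive.gmFn_gmMk]
    exact hu.pull_mul

variable [IsMonHom i]

omit [IsMonHom i] in
/-- Extensions of modules give the character condition. -/
theorem charCond_of_extendsAlong
    (hext : ∀ (V : Type u) [AddCommGroup V] [Module k V] [Module.Finite k V] (σ : VecGrp.GMod H V), σ.ExtendsAlong i) :
    CharCond i := by
  rintro u hu ⟨f, hf0, hf⟩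
  have hunit := hf.isUnit hf0
  have hinvMult : IsMult ((hunit.unit⁻¹ : (Fn H)ˣ) : Fn H) := fun h h' => by
    have e : ∀ y : VecGrp.pt k k ⟶ H, evalPt y ((hunit.unit⁻¹ : (Fn H)ˣ) : Fn H) = (evalPt y u)⁻¹ := fun y =>
      eq_inv_of_mul_eq_one_left (by rw [← map_mul, IsUnit.val_inv_mul, map_one])
    rw [e, e, e, hu, _root_.mul_inv]
  obtain ⟨W, _, _, _, ρ, φ, hφ, heq⟩ := hext k (lineGMod hunit.unit⁻¹ hinvMult)
  have hv : φ 1 ≠ 0 := fun h0 => one_ne_zero (hφ (h0.trans (map_zero φ).symm))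
  obtain ⟨b, hb0, hb⟩ := exists_fn_of_vector i ρ hv ((hunit.unit⁻¹ : (Fn H)ˣ) : Fn H) fun h => by
    have hh := heq k h ((1 : k) ⊗ₜ[k] (1 : k))
    rw [← one_tmul_pk, LinearMap.baseChange_tmul, LinearMap.baseChange_tmul, ← one_tmul_pk, pk_lineGMod] at hh
    have := (TensorProduct.lid k W).symm.injective hh
    rw [← this, ← map_smul, smul_eq_mul, _root_.mul_one]
  refine ⟨b, hb0, fun x h => ?_⟩
  rw [hb, mul_comm (evalPt h _) (evalPt x b), _root_.mul_assoc, ← map_mul, IsUnit.val_inv_mul, map_one,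
    _root_.mul_one]

/-- Observability is transitive. -/
theorem charCond_comp {K : Over (Spec (CommRingCat.of k))} [GrpObj K] [IsAffine K.left] [Smooth K.hom]
    (j : K ⟶ G) [IsMonHom j] [IsClosedImmersion j.left] (i : H ⟶ K) [IsMonHom i]
    (hi : CharCond i) (hj : CharCond j) : CharCond (i ≫ j) := by
  classical
  rintro u hu ⟨f₀, hf₀, hf₀s⟩
  obtain ⟨z, hz⟩ := exists_lTrans_ne_zero hf₀ (1 : VecGrp.pt k k ⟶ G)
  have hz' : pull j (lTrans z f₀) ≠ 0 := fun h0 => hz (by rw [← MonObj.one_comp j, evalPt_comp_apply, h0, map_zero])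
  obtain ⟨b, hb0, hb⟩ := hi u hu ⟨_, hz', fun y h => by
    rw [← evalPt_comp_apply, MonObj.mul_comp, Category.assoc, ← evalPt_comp_apply]
    exact hf₀s.lTrans z _ h⟩
  obtain ⟨U, hUfin, hbU, hU⟩ := exists_rT_stable (G := K) {b}
  obtain ⟨L, _, Φ, hinj, hΦ⟩ := exists_embed j hj U hU
  have hbm : b ∈ U := hbU (by simp)
  obtain ⟨l, hl⟩ : ∃ l, Φ ⟨b, hbm⟩ l ≠ 0 := by
    by_contra! h0
    exact hb0 (congrArg Subtype.val (hinj ((funext h0 : Φ ⟨b, hbm⟩ = 0).trans (map_zero Φ).symm)))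
  refine ⟨_, hl, fun x h => ?_⟩
  have e : evalPt h u • (⟨rT (h ≫ i) b, hU _ b hbm⟩ : U) = ⟨b, hbm⟩ := Subtype.ext (fn_ext_pts fun y => by
    simp only [Submodule.coe_smul, map_smul, evalPt_rT, smul_eq_mul]
    rw [mul_comm, hb])
  conv_rhs => rw [← e, map_smul, Pi.smul_apply, hΦ (h ≫ i) ⟨b, hbm⟩ l, map_smul, evalPt_rT, smul_eq_mul,
    Category.assoc, mul_comm]

/-- An open subgroup is observable. -/
theorem obs_of_isOpenImmersion [IsOpenImmersion i.left] : AGF.IsObservableIn k i := by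
  intro g hg
  obtain ⟨E, hE1, hE0⟩ := exists_extension i (1 : Fn H)
  have hE : AGF.IsRTransInv i E := mem_invAlg.1 fun x h => by
    by_cases hx : x ∈ (ratHom i).range
    · obtain ⟨y, rfl⟩ := hx
      rw [ratHom_apply, ← MonObj.mul_comp, hE1, hE1, map_one, map_one]
    · rw [hE0 x hx, hE0 (x * (h ≫ i)) fun hh => hx ((Subgroup.mul_mem_cancel_right _ (show h ≫ i ∈ (ratHom i).range from ⟨h, rfl⟩)).1 hh)]
  have h1 := evalPt_one_of_isRTransInv (hg E hE)
  rw [← MonObj.one_comp i, hE1, map_one] at h1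
  by_contra hne
  rw [hE0 g fun ⟨h, hh⟩ => hne ⟨h, hh⟩] at h1
  exact zero_ne_one h1

end Groth.AgfChar
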